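import Mathlib.AlgebraicGeometry.Properties

/-!
A scheme whose functions have only trivial idempotents is connected.
-/

universe u

open CategoryTheory AlgebraicGeometry Opposite TopologicalSpace

namespace Groth.Agent.H81.CycCover.Conn

theorem connectedSpace_of_idempotent {Y : Scheme.{u}} [Nonempty Y]
    (h : ∀ e : Γ(Y, ⊤), e * e = e → e = 0 ∨ e = 1) : ConnectedSpace Y := by
  refine connectedSpace_iff_clopen.2 ⟨‹_›, fun s hs => ?_⟩
  by_contra hne
  push Not at hne
  obtain ⟨hne1, hne2⟩ := hne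
  let U : Bool → Y.Opens := fun b => if b then ⟨s, hs.isOpen⟩ else ⟨sᶜ, hs.compl.isOpen⟩
  let c : ∀ b, Γ(Y, U b) := fun b => if b then 1 else 0
  have hcov : (⊤ : Y.Opens) ≤ iSup U := fun x _ => by
    rcases em (x ∈ s) with hx | hx
    · exact Opens.mem_iSup.2 ⟨true, hx⟩
    · exact Opens.mem_iSup.2 ⟨false, hx⟩
  obtain ⟨e, he, huniq⟩ := TopCat.Sheaf.existsUnique_gluing' Y.sheaf U ⊤
    (fun b => homOfLE le_top) hcov c fun b b' => by
      rcases eq_or_ne b b' with rfl | hb
      · rfl
      · have hd : U b ⊓ U b' = ⊥ := by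
          ext x
          cases b <;> cases b' <;> simp_all [U]
        have : Subsingleton Γ(Y, U b ⊓ U b') :=
          CommRingCat.subsingleton_of_isTerminal ((Y.sheaf.isTerminalOfEqEmpty hd))
        exact Subsingleton.elim (α := Γ(Y, U b ⊓ U b')) _ _
  have hres : ∀ b, (Y.presheaf.map (homOfLE (le_top : U b ≤ ⊤)).op).hom e = c b := he
  have hee : e * e = e := huniq _ fun b => by
    change (Y.presheaf.map (homOfLE (le_top : U b ≤ ⊤)).op).hom (e * e) = c b
    refine (map_mul (Y.presheaf.map (homOfLE (le_top : U b ≤ ⊤)).op).hom e e).trans ?_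
    refine (congrArg₂ (· * ·) (hres b) (hres b)).trans ?_
    cases b <;> simp [c]
  rcases h e hee with h0 | h1
  · obtain ⟨x, hx⟩ := hne1
    have : Nonempty (U true) := ⟨⟨x, hx⟩⟩
    have := hres true
    rw [h0, map_zero] at this
    exact zero_ne_one (α := Γ(Y, U true)) this
  · obtain ⟨x, hx⟩ := Set.nonempty_compl.2 hne2
    have : Nonempty (U false) := ⟨⟨x, hx⟩⟩
    have := hres false
    rw [h1, map_one] at this
    exact one_ne_zero (α := Γ(Y, U false)) this

end Groth.Agent.H81.CycCover.Conn
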