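import Groth.Agent.H81.CycCover.Fam
import Groth.Agent.Lib.TensorMod.Basis
import Groth.Agent.Lib.TensorMod.QCohInv
import Groth.Prelude.Def_RelSpec

/-!
The quasi-coherent algebra `O ⊕ L ⊕ … ⊕ L^(d-1)` of an invertible module with trivialised `d`-th power.
-/

universe u

open CategoryTheory CategoryTheory.Limits AlgebraicGeometry Opposite TopologicalSpace

namespace Groth.Agent.H81.CycCover.Alg

open Groth.Agent.Lib Groth.Agent.Lib.TensorMod Groth.Agent.Lib.TensorMod.Dual
open Groth.Agent.H81.CycCover.Ring Groth.Agent.H81.CycCover.Frame Groth.Agent.H81.CycCover.Fam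

variable {X : Scheme.{u}} {L : X.Modules} {d : ℕ} (α : CohB1.tensorPow L d ⟶ Coh.structureModule X)

lemma secRes_self {V : X.Opens} (h : V ≤ V) (a : Sec α V) : secRes α h a = a :=
  Subtype.ext (funext fun p => by rw [secRes_apply, rres_self])

lemma secRes_secRes {U V W : X.Opens} (h : V ≤ U) (h' : W ≤ V) (a : Sec α U) :
    secRes α h' (secRes α h a) = secRes α (h'.trans h) a :=
  Subtype.ext (funext fun p => by simp only [secRes_apply]; rw [rres_rres])

/-- The presheaf of rings. -/
noncomputable def alg : TopCat.Presheaf CommRingCat.{u} X.carrier where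
  obj V := CommRingCat.of (Sec α V.unop)
  map i := CommRingCat.ofHom (secRes α i.unop.le)
  map_id V := CommRingCat.hom_ext (RingHom.ext fun a => secRes_self α le_rfl a)
  map_comp i j := CommRingCat.hom_ext (RingHom.ext fun a => (secRes_secRes α i.unop.le j.unop.le a).symm)

/-- The constant family. -/
noncomputable def constHom (V : X.Opens) : Γ(X, V) →+* Sec α V :=
  (RingHom.pi fun p : Fr L => (cst : Γ(X, V ⊓ p.U) →+* Rg α p inf_le_right).comp (rh inf_le_left)).codRestrict
    (Sec α V) fun a p q W hp hq b hb => by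
      change tres α inf_le_right hq (hp.trans inf_le_right) hb (cst (rh inf_le_left a)) =
        rres α p inf_le_right hp (cst (rh inf_le_left a))
      simp only [tres, rres, rmap_cst]
      congr 1
      exact (rf_rf _ hq a).trans (rf_rf _ hp a).symm

lemma secRes_const {U V : X.Opens} (h : V ≤ U) (a : Γ(X, U)) :
    secRes α h (constHom α U a) = constHom α V (rh h a) := by
  refine Subtype.ext (funext fun p => ?_)
  rw [secRes_apply]
  change rres α p inf_le_right _ (cst (rh inf_le_left a)) = cst (rh inf_le_left (rh h a))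
  simp only [rres, rmap_cst]
  congr 1
  exact (rf_rf _ _ a).trans (rf_rf h _ a).symm

lemma ev_const (p : Fr L) {V : X.Opens} (h : V ≤ p.U) (a : Γ(X, V)) :
    ev α p h (constHom α V a) = cst a := by
  rw [ev_apply]
  change rres α p inf_le_right _ (cst (rh inf_le_left a)) = _
  simp only [rres, rmap_cst]
  congr 1
  exact (rf_rf _ _ a).trans (rf_self _ a)

/-- The structure map. -/
noncomputable def str : X.presheaf ⟶ alg α where
  app V := CommRingCat.ofHom (constHom α V.unop)
  naturality U V i := CommRingCat.hom_ext (RingHom.ext fun a => (secRes_const α i.unop.le a).symm)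

variable (hd : 0 < d)
include hd

theorem exists_unique_glue {J : Type u} (U : J → X.Opens) (sf : ∀ j, Sec α (U j))
    (hsf : ∀ i j, secRes α (inf_le_left : U i ⊓ U j ≤ U i) (sf i) =
      secRes α (inf_le_right : U i ⊓ U j ≤ U j) (sf j)) :
    ∃! s : Sec α (iSup U), ∀ j, secRes α (le_iSup U j) s = sf j := by
  have hcov : ∀ p : Fr L, iSup U ⊓ p.U ≤ iSup fun j => U j ⊓ p.U := fun p => by rw [iSup_inf_eq]
  have hle : ∀ (p : Fr L) (j : J), U j ⊓ p.U ≤ iSup U ⊓ p.U := fun p j =>
    inf_le_inf_right _ (le_iSup U j)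
  have hc : ∀ (p : Fr L) (i j : J) (W : X.Opens) (hi : W ≤ U i ⊓ p.U) (hj : W ≤ U j ⊓ p.U),
      rres α p inf_le_right hi ((sf i).1 p) = rres α p inf_le_right hj ((sf j).1 p) := by
    intro p i j W hi hj
    have h := congrArg (fun a : Sec α (U i ⊓ U j) =>
      rres α p inf_le_right (le_inf (le_inf (hi.trans inf_le_left) (hj.trans inf_le_left))
        (hi.trans inf_le_right)) (a.1 p)) (hsf i j)
    simp only [secRes_apply, rres_rres] at h
    exact h
  choose y hy using fun p : Fr L => glue_of_cover α (inf_le_right : iSup U ⊓ p.U ≤ p.U) hd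
    (fun j => U j ⊓ p.U) (hcov p) (hle p) (fun j => (sf j).1 p) (fun i j => hc p i j _ _ _)
  have hy' : ∀ (p : Fr L) (j : J) (W : X.Opens) (h : W ≤ U j ⊓ p.U) (hW : W ≤ iSup U ⊓ p.U),
      rres α p inf_le_right hW (y p) = rres α p inf_le_right h ((sf j).1 p) := by
    intro p j W h hW
    rw [← hy p j, rres_rres]
  have hmem : Comp α (iSup U) y := by
    intro p q W hp hq b hb
    refine ext_of_cover α _ hd (fun j => U j ⊓ W) ?_ (fun j => inf_le_right) fun j => ?_
    · rw [← iSup_inf_eq]
      exact le_inf (hp.trans inf_le_left) le_rfl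
    have hpj : U j ⊓ W ≤ U j ⊓ p.U := le_inf inf_le_left (inf_le_right.trans (hp.trans inf_le_right))
    have hqj : U j ⊓ W ≤ U j ⊓ q.U := le_inf inf_le_left (inf_le_right.trans (hq.trans inf_le_right))
    have hb' := hb_res (hq.trans inf_le_right) (hp.trans inf_le_right)
      (inf_le_right : U j ⊓ W ≤ W) hb
    rw [rres_rres, hy' p j _ hpj, rres_tres α _ hq (hp.trans inf_le_right) inf_le_right hb hb',
      ← tres_rres α inf_le_right ((inf_le_right : U j ⊓ W ≤ W).trans hq) le_rfl
        (inf_le_right.trans (hp.trans inf_le_right)) hb',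
      hy' q j _ hqj, tres_rres α inf_le_right hqj le_rfl]
    exact (sf j).2 p q _ hpj hqj _ hb'
  refine ⟨⟨y, hmem⟩, fun j => Subtype.ext (funext fun p => ?_), fun z hz => ?_⟩
  · rw [secRes_apply]
    exact hy p j
  · refine Subtype.ext (funext fun p => ext_of_cover α _ hd (fun j => U j ⊓ p.U) (hcov p) (hle p) fun j => ?_)
    have h := congrArg (fun a : Sec α (U j) => a.1 p) (hz j)
    simp only [secRes_apply] at h
    exact h.trans (hy p j).symm

theorem isSheaf_alg : (alg α).IsSheaf := by
  rw [TopCat.Presheaf.isSheaf_iff_isSheafUniqueGluing]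
  intro J U sf hsf
  exact exists_unique_glue α hd U sf hsf


/-- The sheaf of abelian groups. -/
noncomputable abbrev algAb : TopCat.Presheaf AddCommGrpCat.{u} X.carrier where
  obj V := AddCommGrpCat.of (Sec α V.unop)
  map i := AddCommGrpCat.ofHom (secRes α i.unop.le).toAddMonoidHom
  map_id V := AddCommGrpCat.hom_ext (AddMonoidHom.ext fun a => secRes_self α le_rfl a)
  map_comp i j := AddCommGrpCat.hom_ext
    (AddMonoidHom.ext fun a => (secRes_secRes α i.unop.le j.unop.le a).symm)

/-- Scalars act through constants. -/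
noncomputable abbrev moduleSect (V : (Opens X.carrier)ᵒᵖ) :
    Module (X.ringCatSheaf.obj.obj V) ((algAb α).obj V) :=
  (constHom α V.unop).toAlgebra.toModule

theorem isSheaf_algAb : (algAb α).IsSheaf :=
  (TopCat.Presheaf.isSheaf_iff_isSheaf_comp (forget AddCommGrpCat) _).mpr
    (TopCat.Presheaf.isSheaf_of_iso
      (NatIso.ofComponents (fun _ => Iso.refl _) (by intros; rfl) :
        alg α ⋙ forget CommRingCat ≅ algAb α ⋙ forget AddCommGrpCat)
      ((TopCat.Presheaf.isSheaf_iff_isSheaf_comp (forget CommRingCat) _).mp (isSheaf_alg α hd)))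

/-- The algebra as a module. -/
noncomputable def algMod : X.Modules where
  val := letI := moduleSect α
    PresheafOfModules.ofPresheaf (algAb α) fun U V i r m => by
      let r' : Γ(X, U.unop) := r
      let m' : Sec α U.unop := m
      exact (map_mul (secRes α i.unop.le) (constHom α U.unop r') m').trans
        (congrArg (· * secRes α i.unop.le m') (secRes_const α i.unop.le r'))
  isSheaf := isSheaf_algAb α hd

/-- The element `T` of the algebra over a frame. -/
noncomputable def tp (p : Fr L) : Sec α p.U := ((ev_bijective α p le_rfl).2 T).choose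

lemma ev_tp (p : Fr L) {V : X.Opens} (h : V ≤ p.U) : ev α p h (secRes α h (tp α p)) = T := by
  rw [← rres_apply_ev α p le_rfl h, tp, ((ev_bijective α p le_rfl).2 T).choose_spec]
  simp [rres]

/-- The powers of `T` form a basis. -/
noncomputable def basisElt (p : Fr L) (i : Fin d) : Γ(algMod α hd, p.U) := (tp α p ^ (i : ℕ) : Sec α p.U)

lemma comb_basisElt (p : Fr L) {V : X.Opens} (h : V ≤ p.U) (a : Fin d → Γ(X, V)) :
    ev α p h (show Sec α V from Basis.comb (basisElt α hd p) h a) = Ring.comb a := by
  change ev α p h (∑ i, constHom α V (a i) * secRes α h (tp α p ^ (i : ℕ))) = _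
  simp only [map_sum, map_mul, map_pow, ev_const]
  exact Finset.sum_congr rfl fun i _ => congrArg (fun t => cst (a i) * t ^ (i : ℕ)) (ev_tp α hd p h)

theorem isBasis_basisElt (p : Fr L) : Basis.IsBasis (basisElt α hd p) := fun V h => by
  have h1 : Function.Bijective (Ring.comb (d := d) (f := fr α p h)) := comb_bijective hd _
  rw [← funext (comb_basisElt α hd p h)] at h1
  exact (Function.Bijective.of_comp_iff' (ev_bijective α p h) _).1 h1

theorem isFinLocFreeOfRank_algMod (hL : PicF.IsInvertible L) :
    FlatMod.IsFinLocFreeOfRank d (algMod α hd) := fun x => by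
  obtain ⟨U, e, hx, he⟩ := Gen.isInvertible_iff.1 hL x
  exact ⟨U, hx, Basis.exists_iso_of_basis (isBasis_basisElt α hd ⟨U, e, he⟩)⟩

theorem isQC_alg (hL : PicF.IsInvertible L) : RelSpec.IsQC (alg α) (str α) := by
  intro U hU r
  have hM := QCohInv.isQCoh_of_isFinLocFree (M := algMod α hd) fun x =>
    let ⟨W, hx, i⟩ := isFinLocFreeOfRank_algMod α hd hL x; ⟨W, d, hx, i⟩
  obtain ⟨hext, hsep⟩ := QCoh.Localizing.localizes_of_isAffineOpen (algMod α hd) hU r
  let _ : Algebra (Sec α U) (Sec α (X.basicOpen r)) := (secRes α (X.basicOpen_le r)).toAlgebra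
  change IsLocalization.Away (constHom α U r) (Sec α (X.basicOpen r))
  refine IsLocalization.Away.mk _ ?_ (fun a => ?_) fun a b hab => ?_
  · change IsUnit (secRes α _ (constHom α U r))
    rw [secRes_const]
    refine IsUnit.map (constHom α (X.basicOpen r)) ?_
    exact X.toRingedSpace.isUnit_res_basicOpen r
  · obtain ⟨n, t, ht⟩ := hext a
    refine ⟨n, t, ?_⟩
    change a * secRes α _ (constHom α U r) ^ n = secRes α _ t
    rw [secRes_const, mul_comm, ← map_pow]
    exact ht.symm
  · obtain ⟨n, hn⟩ := QCoh.Localizing.Separates.exists_pow_smul_eq hsep (t := a) (t' := b) hab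
    refine ⟨n, ?_⟩
    rw [← map_pow]
    exact hn

/-- The quasi-coherent algebra. -/
noncomputable def qcAlg (hL : PicF.IsInvertible L) : RelSpec.QCAlg X where
  presheaf := alg α
  isSheaf := isSheaf_alg α hd
  str := str α
  isQC := isQC_alg α hd hL

end Groth.Agent.H81.CycCover.Alg
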