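import Groth.Agent.H81.CycCover.Geom
import Groth.Prelude.Def_FinCov

/-!
The algebra `O ⊕ L` of a pairing.
-/

universe u

open CategoryTheory CategoryTheory.Limits AlgebraicGeometry Opposite TopologicalSpace

namespace Groth.Agent.H81.CycCover.Dbl

open Groth.Agent.Lib Groth.Agent.Lib.TensorMod Groth.Agent.Lib.TensorMod.Dual
open Groth.Agent.H81.CycCover.Ring Groth.Agent.H81.CycCover.Frame Groth.Agent.H81.CycCover.Fam
open Groth.Agent.H81.CycCover.Alg Groth.Agent.H81.CycCover.Geom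

variable {X : Scheme.{u}} {L : X.Modules}

theorem exists_square (m : CohB1.tensorMod L L ⟶ Coh.structureModule X) :
    ∃ α : CohB1.tensorPow L 2 ⟶ Coh.structureModule X, ∀ p : Fr L,
      fd α p = m.app p.U (SecTwist.tmul L L p.U p.e p.e) := by
  obtain ⟨β, hβ⟩ := Pullback.exists_hom_of_pairing (M := Coh.structureModule X) (N := L) (H := L)
    (fun U a l => (show Γ(X, U) from a) • l) (fun U a a' l => add_smul _ _ _) (fun U a l l' => smul_add _ _ _)
    (fun U r a l => mul_smul r (show Γ(X, U) from a) l)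
    (fun U r a l => smul_comm (show Γ(X, U) from a) r l)
    (fun U V i a l => L.map_smul i (show Γ(X, V) from a) l)
  refine ⟨Basic.tmap β (𝟙 L) ≫ m, fun p => ?_⟩
  change (Basic.tmap β (𝟙 L) ≫ m).app p.U
    (SecTwist.tmul (CohB1.tensorMod (Coh.structureModule X) L) L p.U
      (SecTwist.tmul (Coh.structureModule X) L p.U (Gen.one X p.U) p.e) p.e) = _
  rw [Scheme.Modules.Hom.comp_app]
  change m.app p.U (Free.pairM (Basic.tmap β (𝟙 L)) _ p.e) = _
  refine (congrArg (m.app p.U) (Free.pairM_tmap β (𝟙 L) _ p.e)).trans ?_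
  change m.app p.U (SecTwist.tmul L L p.U (Free.pairM β (Gen.one X p.U) p.e) p.e) = _
  refine (congrArg (fun t => m.app p.U (SecTwist.tmul L L p.U t p.e)) (hβ p.U _ p.e)).trans ?_
  exact congrArg (fun t => m.app p.U (SecTwist.tmul L L p.U t p.e)) (one_smul _ p.e)

variable (α : CohB1.tensorPow L 2 ⟶ Coh.structureModule X)

/-- `j : L ⟶ A`. -/
noncomputable def jHom (hL : PicF.IsInvertible L) : L ⟶ (qcAlg α Nat.two_pos hL).toModule :=
  ⟨letI := (qcAlg α Nat.two_pos hL).moduleSect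
   PresheafOfModules.homMk
    { app := fun V => AddCommGrpCat.ofHom (AddMonoidHom.mk' (fun l => lin α V.unop l) (lin_add α _))
      naturality := fun U V i => AddCommGrpCat.hom_ext (AddMonoidHom.ext fun l =>
        (lin_res α i.unop.le l).symm) }
    fun V r l => lin_smul α _ r l⟩

lemma comb_two {V : X.Opens} {p : Fr L} (a : Fin 2 → Γ(X, V ⊓ p.U)) :
    (Ring.comb a : Rg α p (inf_le_right : V ⊓ p.U ≤ p.U)) = cst (a 0) + cst (a 1) * T := by
  simp [Ring.comb, Fin.sum_univ_two]

theorem bijective (hL : PicF.IsInvertible L) (V : X.Opens) :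
    Function.Bijective fun q : Γ(X, V) × Γ(L, V) => constHom α V q.1 + lin α V q.2 := by
  have hcov : V ≤ iSup fun p : Fr L => p.U := fun x _ => by
    obtain ⟨U, e, hx, he⟩ := Gen.isInvertible_iff.1 hL x
    exact Opens.mem_iSup.2 ⟨⟨U, e, he⟩, hx⟩
  have hcov' : V ≤ iSup fun p : Fr L => V ⊓ p.U := by rw [← inf_iSup_eq]; exact le_inf le_rfl hcov
  choose c hc using fun (l : Γ(L, V)) (p : Fr L) =>
    (p.gen (V ⊓ p.U) inf_le_right).2 (rs L (inf_le_left : V ⊓ p.U ≤ V) l)
  have hval : ∀ (r : Γ(X, V)) (l : Γ(L, V)) (p : Fr L), (constHom α V r + lin α V l).1 p =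
      Ring.comb ![rh inf_le_left r, c l p] := fun r l p => by
    rw [comb_two]
    change cst (rh inf_le_left r) + (lin α V l).1 p = _
    rw [lin_spec α V l p (c l p) (hc l p).symm]
    rfl
  constructor
  · rintro ⟨r, l⟩ ⟨r', l'⟩ h
    have hp : ∀ p : Fr L, rh inf_le_left r = rh (inf_le_left : V ⊓ p.U ≤ V) r' ∧ c l p = c l' p := fun p => by
      have h1 := congrArg (fun a : Sec α V => a.1 p) h
      simp only [hval] at h1
      have h2 := (comb_bijective Nat.two_pos _).1 h1
      exact ⟨congrFun h2 0, congrFun h2 1⟩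
    refine Prod.ext (TopCat.Sheaf.eq_of_locally_eq' X.sheaf (fun p : Fr L => V ⊓ p.U) V
      (fun p => homOfLE inf_le_left) hcov' _ _ fun p => (hp p).1) ?_
    refine HomGlue.sections_ext_cover (fun p : Fr L => p.U) L hcov fun p => ?_
    rw [← hc l p, ← hc l' p, (hp p).2]
  · intro a
    choose k hk using fun p : Fr L => (comb_bijective Nat.two_pos _).2 (a.1 p)
    have hcomp : ∀ (p q : Fr L) (W : X.Opens) (hp : W ≤ V ⊓ p.U) (hq : W ≤ V ⊓ q.U) (b : Γ(X, W)),
        rs L (hq.trans inf_le_right) q.e = b • rs L (hp.trans inf_le_right) p.e →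
        ∀ i : Fin 2, rh hp (k p i) = rh hq (k q i) * b ^ (i : ℕ) := by
      intro p q W hp hq b hb i
      have h := a.2 p q W hp hq b hb
      rw [← hk p, ← hk q, rres_comb] at h
      simp only [tres, rmap_comb] at h
      exact (congrFun ((comb_bijective Nat.two_pos _).1 h) i).symm
    obtain ⟨r, hr, -⟩ := TopCat.Sheaf.existsUnique_gluing' X.sheaf (fun p : Fr L => V ⊓ p.U) V
      (fun p => homOfLE inf_le_left) hcov' (fun p => k p 0) fun p q => by
        obtain ⟨b, hb⟩ := exists_coeff p q ((inf_le_left : (V ⊓ p.U) ⊓ (V ⊓ q.U) ≤ _).trans inf_le_right)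
          ((inf_le_right : (V ⊓ p.U) ⊓ (V ⊓ q.U) ≤ _).trans inf_le_right)
        have := hcomp p q _ inf_le_left inf_le_right b hb 0
        rwa [Fin.val_zero, pow_zero, mul_one] at this
    obtain ⟨l, hl, -⟩ := TopCat.Sheaf.existsUnique_gluing'
      (⟨L.presheaf, L.isSheaf⟩ : TopCat.Sheaf Ab.{u} X) (fun p : Fr L => V ⊓ p.U) V
      (fun p => homOfLE inf_le_left) hcov' (fun p => k p 1 • rs L (inf_le_right : V ⊓ p.U ≤ p.U) p.e)
      fun p q => by
        obtain ⟨b, hb⟩ := exists_coeff p q ((inf_le_left : (V ⊓ p.U) ⊓ (V ⊓ q.U) ≤ _).trans inf_le_right)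
          ((inf_le_right : (V ⊓ p.U) ⊓ (V ⊓ q.U) ≤ _).trans inf_le_right)
        change rs L inf_le_left (_ • _) = rs L inf_le_right (_ • _)
        rw [rs_smul, rs_smul, rs_rs, rs_rs, hb, smul_smul]
        refine congrArg (· • rs L _ p.e) ?_
        have := hcomp p q _ inf_le_left inf_le_right b hb 1
        rwa [Fin.val_one, pow_one] at this
    refine ⟨(r, l), Subtype.ext (funext fun p => ?_)⟩
    refine (hval r l p).trans ?_
    rw [← hk p]
    refine congrArg Ring.comb (funext fun i => ?_)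
    fin_cases i
    · exact hr p
    · exact (p.gen (V ⊓ p.U) inf_le_right).1 ((hc l p).trans (hl p))

theorem lin_mul (m : CohB1.tensorMod L L ⟶ Coh.structureModule X)
    (hα : ∀ p : Fr L, fd α p = m.app p.U (SecTwist.tmul L L p.U p.e p.e)) (V : X.Opens) (l l' : Γ(L, V)) :
    lin α V l * lin α V l' = constHom α V (m.app V (SecTwist.tmul L L V l l')) := by
  refine Subtype.ext (funext fun p => ?_)
  obtain ⟨c, hc⟩ := (p.gen (V ⊓ p.U) inf_le_right).2 (rs L (inf_le_left : V ⊓ p.U ≤ V) l)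
  obtain ⟨c', hc'⟩ := (p.gen (V ⊓ p.U) inf_le_right).2 (rs L (inf_le_left : V ⊓ p.U ≤ V) l')
  simp only at hc hc'
  change (lin α V l).1 p * (lin α V l').1 p = cst (rh inf_le_left (m.app V (SecTwist.tmul L L V l l')))
  rw [lin_spec α V l p c hc.symm, lin_spec α V l' p c' hc'.symm, mul_mul_mul_comm, ← map_mul, ← pow_two,
    T_pow, ← map_mul]
  refine congrArg cst ?_
  have h : rh (inf_le_left : V ⊓ p.U ≤ V) (m.app V (SecTwist.tmul L L V l l')) =
      m.app (V ⊓ p.U) (rs (CohB1.tensorMod L L) inf_le_left (SecTwist.tmul L L V l l')) :=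
    HomGlue.rs_app m inf_le_left _
  rw [h, Ample.GenLocus.rs_tmul, ← hc, ← hc', Ample.GenLocus.tmul_smul]
  refine Eq.trans ?_ (Scheme.Modules.Hom.app_smul m _ _).symm
  refine congrArg (fun t => c * c' * t) ?_
  refine (congrArg (rf inf_le_right) (hα p)).trans ?_
  refine (HomGlue.rs_app m _ _).trans ?_
  rw [Ample.GenLocus.rs_tmul]

end Groth.Agent.H81.CycCover.Dbl
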