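import Groth.Agent.H81.CycCover.Frame

/-!
The algebra of compatible families of elements of `Γ(V ⊓ U_p)[T]/(T^d - f_p)`.
-/

universe u

open CategoryTheory CategoryTheory.Limits AlgebraicGeometry Opposite TopologicalSpace

namespace Groth.Agent.H81.CycCover.Fam

open Groth.Agent.Lib Groth.Agent.Lib.TensorMod Groth.Agent.Lib.TensorMod.Dual
open Groth.Agent.H81.CycCover.Ring Groth.Agent.H81.CycCover.Frame

variable {X : Scheme.{u}} {L : X.Modules} {d : ℕ} (α : CohB1.tensorPow L d ⟶ Coh.structureModule X)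

/-- The restriction ring map. -/
noncomputable abbrev rh {U V : X.Opens} (h : V ≤ U) : Γ(X, U) →+* Γ(X, V) :=
  (X.presheaf.map (homOfLE h).op).hom

lemma rh_rh {U V W : X.Opens} (h : V ≤ U) (h' : W ≤ V) : (rh h').comp (rh h) = rh (h'.trans h) :=
  RingHom.ext (rf_rf h h')

lemma rh_self {U : X.Opens} (h : U ≤ U) : rh h = RingHom.id _ := RingHom.ext (rf_self h)

/-- The local algebra over `W` in the frame `p`. -/
abbrev Rg (p : Fr L) {W : X.Opens} (h : W ≤ p.U) : Type u := Rt d (fr α p h)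

lemma res_h (p : Fr L) {W W' : X.Opens} (h : W ≤ p.U) (hW : W' ≤ W) :
    rh hW (fr α p h) = 1 ^ d * fr α p (hW.trans h) := by
  rw [one_pow, one_mul]
  exact rf_rf h hW _

/-- Restriction in a frame. -/
noncomputable def rres (p : Fr L) {W W' : X.Opens} (h : W ≤ p.U) (hW : W' ≤ W) :
    Rg α p h →+* Rg α p (hW.trans h) := rmap (rh hW) 1 (res_h α p h hW)

lemma trans_h {p q : Fr L} {W W' : X.Opens} (hq : W ≤ q.U) (hW : W' ≤ W) (hp : W' ≤ p.U)
    {b : Γ(X, W')} (hb : rs L (hW.trans hq) q.e = b • rs L hp p.e) :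
    rh hW (fr α q hq) = b ^ d * fr α p hp :=
  (rf_rf hq hW _).trans (fr_change α hp (hW.trans hq) hb)

/-- Restriction followed by change of frame. -/
noncomputable def tres {p q : Fr L} {W W' : X.Opens} (hq : W ≤ q.U) (hW : W' ≤ W) (hp : W' ≤ p.U)
    {b : Γ(X, W')} (hb : rs L (hW.trans hq) q.e = b • rs L hp p.e) : Rg α q hq →+* Rg α p hp :=
  rmap (rh hW) b (trans_h α hq hW hp hb)

lemma rres_rres (p : Fr L) {W W' W'' : X.Opens} (h : W ≤ p.U) (hW : W' ≤ W) (hW' : W'' ≤ W') (x : Rg α p h) :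
    rres α p (hW.trans h) hW' (rres α p h hW x) = rres α p h (hW'.trans hW) x := by
  simp only [rres]
  rw [rmap_rmap (h'' := by rw [map_one, one_mul, rh_rh]; exact res_h α p h (hW'.trans hW))]
  exact rmap_congr _ _ (rh_rh hW hW') (by rw [map_one, one_mul]) x

lemma rres_self (p : Fr L) {W : X.Opens} (h : W ≤ p.U) (hW : W ≤ W) (x : Rg α p h) :
    rres α p h hW x = x := rmap_id _ (rh_self hW) rfl x

lemma rres_comb (p : Fr L) {W W' : X.Opens} (h : W ≤ p.U) (hW : W' ≤ W) (a : Fin d → Γ(X, W)) :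
    rres α p h hW (comb a) = comb fun i => rh hW (a i) := by
  simp only [rres, rmap_comb, one_pow, mul_one]

lemma tres_rres {p q : Fr L} {W W' W'' : X.Opens} (hq : W ≤ q.U) (hW : W' ≤ W) (hW' : W'' ≤ W')
    (hp : W'' ≤ p.U) {b : Γ(X, W'')} (hb : rs L (hW'.trans (hW.trans hq)) q.e = b • rs L hp p.e)
    (x : Rg α q hq) :
    tres α (hW.trans hq) hW' hp hb (rres α q hq hW x) = tres α hq (hW'.trans hW) hp hb x := by
  simp only [rres, tres]
  rw [rmap_rmap (h'' := by rw [map_one, one_mul, rh_rh]; exact trans_h α hq (hW'.trans hW) hp hb)]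
  exact rmap_congr _ _ (rh_rh hW hW') (by rw [map_one, one_mul]) x

lemma rres_tres {p q : Fr L} {W W' W'' : X.Opens} (hq : W ≤ q.U) (hW : W' ≤ W) (hp : W' ≤ p.U)
    (hW' : W'' ≤ W') {b : Γ(X, W')} (hb : rs L (hW.trans hq) q.e = b • rs L hp p.e)
    (hb' : rs L (hW'.trans (hW.trans hq)) q.e = rh hW' b • rs L (hW'.trans hp) p.e)
    (x : Rg α q hq) :
    rres α p hp hW' (tres α hq hW hp hb x) = tres α hq (hW'.trans hW) (hW'.trans hp) hb' x := by
  simp only [rres, tres]
  rw [rmap_rmap (h'' := by rw [mul_one, rh_rh]; exact trans_h α hq (hW'.trans hW) (hW'.trans hp) hb')]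
  exact rmap_congr _ _ (rh_rh hW hW') (mul_one _) x

lemma tres_tres {p q r : Fr L} {W W' W'' : X.Opens} (hr : W ≤ r.U) (hW : W' ≤ W) (hq : W' ≤ q.U)
    (hW' : W'' ≤ W') (hp : W'' ≤ p.U) {b : Γ(X, W')} {c : Γ(X, W'')}
    (hb : rs L (hW.trans hr) r.e = b • rs L hq q.e)
    (hc : rs L (hW'.trans hq) q.e = c • rs L hp p.e)
    (hbc : rs L (hW'.trans (hW.trans hr)) r.e = (rh hW' b * c) • rs L hp p.e) (x : Rg α r hr) :
    tres α hq hW' hp hc (tres α hr hW hq hb x) = tres α hr (hW'.trans hW) hp hbc x := by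
  simp only [tres]
  rw [rmap_rmap (h'' := by rw [rh_rh]; exact trans_h α hr (hW'.trans hW) hp hbc)]
  exact rmap_congr _ _ (rh_rh hW hW') rfl x

lemma tres_eq_rres (p : Fr L) {W W' : X.Opens} (h : W ≤ p.U) (hW : W' ≤ W) {b : Γ(X, W')}
    (hb : rs L (hW.trans h) p.e = b • rs L (hW.trans h) p.e) (x : Rg α p h) :
    tres α h hW (hW.trans h) hb x = rres α p h hW x :=
  rmap_congr _ _ rfl (coeff_unique (hW.trans h) (hb.symm.trans (one_smul _ _).symm)) x

lemma hb_res {p q : Fr L} {W W' : X.Opens} (hq : W ≤ q.U) (hp : W ≤ p.U) (hW : W' ≤ W) {b : Γ(X, W)}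
    (hb : rs L hq q.e = b • rs L hp p.e) :
    rs L (hW.trans hq) q.e = rh hW b • rs L (hW.trans hp) p.e := by
  rw [← rs_rs L hq hW, hb, rs_smul, rs_rs]

/-- Families over the part of `V` in each frame. -/
abbrev Amb (V : X.Opens) : Type u := ∀ p : Fr L, Rg α p (inf_le_right : V ⊓ p.U ≤ p.U)

/-- Compatibility of a family. -/
def Comp (V : X.Opens) (a : Amb α V) : Prop :=
  ∀ (p q : Fr L) (W : X.Opens) (hp : W ≤ V ⊓ p.U) (hq : W ≤ V ⊓ q.U) (b : Γ(X, W))
    (hb : rs L (hq.trans inf_le_right) q.e = b • rs L (hp.trans inf_le_right) p.e),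
    tres α inf_le_right hq (hp.trans inf_le_right) hb (a q) = rres α p inf_le_right hp (a p)

/-- The ring of compatible families. -/
def Sec (V : X.Opens) : Subring (Amb α V) where
  carrier := {a | Comp α V a}
  zero_mem' p q W hp hq b hb := (map_zero (tres α _ hq _ hb)).trans (map_zero (rres α p _ hp)).symm
  one_mem' p q W hp hq b hb := (map_one (tres α _ hq _ hb)).trans (map_one (rres α p _ hp)).symm
  add_mem' {a a'} ha ha' p q W hp hq b hb :=
    ((map_add (tres α _ hq _ hb) (a q) (a' q)).trans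
      (congrArg₂ (· + ·) (ha p q W hp hq b hb) (ha' p q W hp hq b hb))).trans
        (map_add (rres α p _ hp) (a p) (a' p)).symm
  mul_mem' {a a'} ha ha' p q W hp hq b hb :=
    ((map_mul (tres α _ hq _ hb) (a q) (a' q)).trans
      (congrArg₂ (· * ·) (ha p q W hp hq b hb) (ha' p q W hp hq b hb))).trans
        (map_mul (rres α p _ hp) (a p) (a' p)).symm
  neg_mem' {a} ha p q W hp hq b hb :=
    ((map_neg (tres α _ hq _ hb) (a q)).trans (congrArg Neg.neg (ha p q W hp hq b hb))).trans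
      (map_neg (rres α p _ hp) (a p)).symm

/-- Restriction of families. -/
noncomputable def ambRes {V V' : X.Opens} (h : V' ≤ V) : Amb α V →+* Amb α V' :=
  RingHom.pi fun p => (rres α p inf_le_right (inf_le_inf_right p.U h)).comp
    (Pi.evalRingHom (fun p => Rg α p (inf_le_right : V ⊓ p.U ≤ p.U)) p)

/-- Restriction of compatible families. -/
noncomputable def secRes {V V' : X.Opens} (h : V' ≤ V) : Sec α V →+* Sec α V' :=
  ((ambRes α h).comp (Sec α V).subtype).codRestrict (Sec α V') fun a p q W hp hq b hb => by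
    change tres α inf_le_right hq (hp.trans inf_le_right) hb (rres α q inf_le_right (inf_le_inf_right q.U h) (a.1 q)) =
      rres α p inf_le_right hp (rres α p inf_le_right (inf_le_inf_right p.U h) (a.1 p))
    rw [rres_rres, tres_rres]
    exact a.2 p q W _ _ b hb

lemma secRes_apply {V V' : X.Opens} (h : V' ≤ V) (a : Sec α V) (p : Fr L) :
    (secRes α h a).1 p = rres α p inf_le_right (inf_le_inf_right p.U h) (a.1 p) := rfl

/-- Evaluation in a frame containing the open. -/
noncomputable def ev (p : Fr L) {V : X.Opens} (h : V ≤ p.U) : Sec α V →+* Rg α p h :=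
  ((rres α p (inf_le_right : V ⊓ p.U ≤ p.U) (le_inf le_rfl h)).comp
    (Pi.evalRingHom (fun p => Rg α p (inf_le_right : V ⊓ p.U ≤ p.U)) p)).comp (Sec α V).subtype

lemma ev_apply (p : Fr L) {V : X.Opens} (h : V ≤ p.U) (a : Sec α V) :
    ev α p h a = rres α p inf_le_right (le_inf le_rfl h) (a.1 p) := rfl

lemma rres_apply_ev (p : Fr L) {V W : X.Opens} (h : V ≤ p.U) (hW : W ≤ V) (a : Sec α V) :
    rres α p h hW (ev α p h a) = ev α p (hW.trans h) (secRes α hW a) := by
  rw [ev_apply, ev_apply, secRes_apply, rres_rres, rres_rres]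

lemma ev_bijective (p : Fr L) {V : X.Opens} (h : V ≤ p.U) : Function.Bijective (ev α p h) := by
  choose c hc using fun q : Fr L => exists_coeff q p (inf_le_right : V ⊓ q.U ≤ q.U) (inf_le_left.trans h)
  have key : ∀ (a : Sec α V) (q : Fr L),
      tres α h inf_le_left inf_le_right (hc q) (ev α p h a) = a.1 q := fun a q => by
    rw [ev_apply, tres_rres]
    exact (a.2 q p (V ⊓ q.U) le_rfl (le_inf inf_le_left (inf_le_left.trans h)) (c q) (hc q)).trans
      (rres_self α q _ _ _)
  constructor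
  · intro a a' e
    exact Subtype.ext (funext fun q => by rw [← key a q, ← key a' q, e])
  · intro x
    have hmem : Comp α V fun q => tres α h inf_le_left inf_le_right (hc q) x := by
      intro q r W hq hr b hb
      have hq' := hb_res (inf_le_left.trans h : V ⊓ q.U ≤ p.U) inf_le_right hq (hc q)
      have hr' := hb_res (inf_le_left.trans h : V ⊓ r.U ≤ p.U) inf_le_right hr (hc r)
      rw [tres_tres α h inf_le_left inf_le_right hr (hq.trans inf_le_right) (hc r) hb
          (by rw [hr', hb, smul_smul]) x, rres_tres α h inf_le_left inf_le_right hq (hc q) hq' x]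
      refine rmap_congr _ _ rfl (coeff_unique (p := q) (hq.trans inf_le_right) ?_) x
      rw [← smul_smul, ← hb, ← hr']
      exact hq'
    refine ⟨⟨_, hmem⟩, ?_⟩
    rw [ev_apply]
    rw [rres_tres α h inf_le_left inf_le_right (le_inf le_rfl h) (hc p)
      (hb_res (inf_le_left.trans h) inf_le_right _ (hc p))]
    rw [tres_eq_rres, rres_self]

lemma ext_of_cover {p : Fr L} {W : X.Opens} (h : W ≤ p.U) (hd : 0 < d) {J : Type u} (D : J → X.Opens)
    (hD : W ≤ iSup D) (hle : ∀ j, D j ≤ W) {x y : Rg α p h}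
    (e : ∀ j, rres α p h (hle j) x = rres α p h (hle j) y) : x = y := by
  obtain ⟨a, rfl⟩ := (comb_bijective hd _).2 x
  obtain ⟨b, rfl⟩ := (comb_bijective hd _).2 y
  refine congrArg comb (funext fun i => TopCat.Sheaf.eq_of_locally_eq' X.sheaf D W
    (fun j => homOfLE (hle j)) hD _ _ fun j => ?_)
  have := e j
  rw [rres_comb, rres_comb] at this
  exact congrFun ((comb_bijective hd _).1 this) i

lemma glue_of_cover {p : Fr L} {W : X.Opens} (h : W ≤ p.U) (hd : 0 < d) {J : Type u} (D : J → X.Opens)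
    (hD : W ≤ iSup D) (hle : ∀ j, D j ≤ W) (x : ∀ j, Rg α p ((hle j).trans h))
    (e : ∀ i j, rres α p ((hle i).trans h) (inf_le_left : D i ⊓ D j ≤ D i) (x i) =
      rres α p ((hle j).trans h) (inf_le_right : D i ⊓ D j ≤ D j) (x j)) :
    ∃ y, ∀ j, rres α p h (hle j) y = x j := by
  choose a ha using fun j => (comb_bijective hd _).2 (x j)
  have hg : ∀ k, ∃ r : Γ(X, W), ∀ j, rh (hle j) r = a j k := by
    intro k
    obtain ⟨r, hr, -⟩ := TopCat.Sheaf.existsUnique_gluing' X.sheaf D W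
      (fun j => homOfLE (hle j)) hD (fun j => a j k) fun i j => by
        have := e i j
        rw [← ha i, ← ha j, rres_comb, rres_comb] at this
        exact congrFun ((comb_bijective hd _).1 this) k
    exact ⟨r, hr⟩
  choose r hr using hg
  refine ⟨comb r, fun j => ?_⟩
  rw [rres_comb, ← ha j]
  exact congrArg comb (funext fun k => hr k j)

end Groth.Agent.H81.CycCover.Fam
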