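import Mathlib.RingTheory.AdjoinRoot

/-!
Rings `A[T]/(T^d - f)` and the maps between them.
-/

universe u

open Polynomial

namespace Groth.Agent.H81.CycCover.Ring

variable {A B C : Type u} [CommRing A] [CommRing B] [CommRing C] {d : ℕ}

/-- `A[T]/(T^d - f)`. -/
abbrev Rt (d : ℕ) (f : A) : Type u := AdjoinRoot (X ^ d - Polynomial.C f)

/-- The class of `T`. -/
noncomputable abbrev T {f : A} : Rt d f := AdjoinRoot.root _

/-- Constants. -/
noncomputable abbrev cst {f : A} : A →+* Rt d f := AdjoinRoot.of _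

lemma T_pow {f : A} : (T : Rt d f) ^ d = cst f := by
  have h := AdjoinRoot.eval₂_root (X ^ d - Polynomial.C f)
  rw [eval₂_sub, eval₂_X_pow, eval₂_C, sub_eq_zero] at h
  exact h

lemma isUnit_T (hd : 0 < d) {f : A} (hf : IsUnit f) : IsUnit (T : Rt d f) :=
  (isUnit_pow_iff hd.ne').1 (T_pow (d := d) (f := f) ▸ hf.map cst)

/-- Coordinates in the basis `1, T, …, T^(d-1)`. -/
noncomputable def comb {f : A} (a : Fin d → A) : Rt d f := ∑ i, cst (a i) * T ^ (i : ℕ)

lemma comb_bijective (hd : 0 < d) (f : A) : Function.Bijective (comb (d := d) (f := f)) := by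
  rcases subsingleton_or_nontrivial A with hA | hA
  · have : Subsingleton (Rt d f) := AdjoinRoot.mk_surjective.subsingleton
    exact ⟨fun a b _ => Subsingleton.elim a b, fun y => ⟨0, Subsingleton.elim _ _⟩⟩
  let P := AdjoinRoot.powerBasis' (monic_X_pow_sub_C f hd.ne')
  have hdim : P.dim = d := natDegree_X_pow_sub_C
  let b := P.basis.reindex (finCongr hdim)
  have h : comb (d := d) (f := f) = ⇑b.equivFun.symm := funext fun a => by
    rw [Module.Basis.equivFun_symm_apply]
    refine Finset.sum_congr rfl fun i _ => ?_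
    rw [Algebra.smul_def, AdjoinRoot.algebraMap_eq, Module.Basis.reindex_apply, PowerBasis.coe_basis]
    rfl
  rw [h]
  exact b.equivFun.symm.bijective

/-- The map `T ↦ b·T` over `φ`. -/
noncomputable def rmap (φ : A →+* B) (b : B) {f : A} {g : B} (h : φ f = b ^ d * g) :
    Rt d f →+* Rt d g :=
  AdjoinRoot.lift (cst.comp φ) (cst b * T) (by
    rw [eval₂_sub, eval₂_X_pow, eval₂_C, mul_pow, T_pow, RingHom.comp_apply, h, map_mul, map_pow,
      sub_self])

@[simp] lemma rmap_cst {φ : A →+* B} {b : B} {f : A} {g : B} (h : φ f = b ^ d * g) (a : A) :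
    rmap φ b h (cst a) = cst (φ a) := AdjoinRoot.lift_of _

@[simp] lemma rmap_T {φ : A →+* B} {b : B} {f : A} {g : B} (h : φ f = b ^ d * g) :
    rmap φ b h T = cst b * T := AdjoinRoot.lift_root _

lemma rmap_comb {φ : A →+* B} {b : B} {f : A} {g : B} (h : φ f = b ^ d * g) (a : Fin d → A) :
    rmap φ b h (comb a) = comb fun i => φ (a i) * b ^ (i : ℕ) := by
  simp only [comb, map_sum, map_mul, map_pow, rmap_cst, rmap_T, mul_pow, mul_assoc]

lemma hom_ext {f : A} {S : Type u} [CommRing S] {α β : Rt d f →+* S}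
    (h : α.comp cst = β.comp cst) (h' : α T = β T) : α = β := by
  refine RingHom.ext fun x => ?_
  induction x using AdjoinRoot.induction_on with
  | ih p => exact DFunLike.congr_fun (Polynomial.ringHom_ext' (f := α.comp (AdjoinRoot.mk _))
      (g := β.comp (AdjoinRoot.mk _)) h h') p

lemma rmap_rmap {φ : A →+* B} {ψ : B →+* C} {b : B} {c : C} {f : A} {g : B} {k : C}
    (h : φ f = b ^ d * g) (h' : ψ g = c ^ d * k) (h'' : (ψ.comp φ) f = (ψ b * c) ^ d * k) (x : Rt d f) :
    rmap ψ c h' (rmap φ b h x) = rmap (ψ.comp φ) (ψ b * c) h'' x := by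
  refine DFunLike.congr_fun (hom_ext (α := (rmap ψ c h').comp (rmap φ b h)) (RingHom.ext fun a => ?_) ?_) x
  · simp
  · simp [mul_assoc]

lemma rmap_congr {φ φ' : A →+* B} {b b' : B} {f : A} {g : B} (h : φ f = b ^ d * g)
    (h' : φ' f = b' ^ d * g) (hφ : φ = φ') (hb : b = b') (x : Rt d f) :
    rmap φ b h x = rmap φ' b' h' x := by
  subst hφ hb; rfl

lemma rmap_id {φ : A →+* A} {b : A} {f : A} (h : φ f = b ^ d * f) (hφ : φ = RingHom.id A)
    (hb : b = 1) (x : Rt d f) : rmap φ b h x = x := by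
  subst hφ hb
  exact DFunLike.congr_fun (hom_ext (α := rmap _ _ h) (β := RingHom.id _)
    (RingHom.ext fun a => by simp) (by simp)) x

end Groth.Agent.H81.CycCover.Ring
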