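import Groth.Agent.Lib.Ample.GenLocus
import Groth.Agent.H81.CycCover.Ring
import Groth.Prelude.Def_CycCov

/-!
Frames of an invertible module with a trivialised `d`-th power.
-/

universe u

open CategoryTheory CategoryTheory.Limits AlgebraicGeometry Opposite TopologicalSpace

namespace Groth.Agent.H81.CycCover.Frame

open Groth.Agent.Lib Groth.Agent.Lib.TensorMod Groth.Agent.Lib.TensorMod.Dual
open Groth.Agent.Lib.TensorMod.Gen (IsGen)

variable {X : Scheme.{u}}

/-- The pure power of a section. -/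
noncomputable abbrev lp (L : X.Modules) {U : X.Opens} (e : Γ(L, U)) (n : ℕ) :
    Γ(CohB1.tensorPow L n, U) := CycCov.lpow L U e n

variable {L : X.Modules}

lemma lp_smul {U : X.Opens} (b : Γ(X, U)) (e : Γ(L, U)) : ∀ n,
    lp L (b • e) n = b ^ n • lp L e n
  | 0 => by rw [pow_zero, one_smul]; rfl
  | n + 1 => by
    have ih := lp_smul b e n
    change SecTwist.tmul _ L U (lp L (b • e) n) (b • e) = b ^ (n + 1) • SecTwist.tmul _ L U (lp L e n) e
    rw [ih, Ample.GenLocus.tmul_smul, pow_succ]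

lemma rs_lp {U V : X.Opens} (h : V ≤ U) (e : Γ(L, U)) : ∀ n,
    rs (CohB1.tensorPow L n) h (lp L e n) = lp L (rs L h e) n
  | 0 => map_one (X.presheaf.map (homOfLE h).op).hom
  | n + 1 => by
    have ih := rs_lp h e n
    change rs (CohB1.tensorMod (CohB1.tensorPow L n) L) h (SecTwist.tmul _ L U (lp L e n) e) =
      SecTwist.tmul _ L V (lp L (rs L h e) n) (rs L h e)
    rw [Ample.GenLocus.rs_tmul, ih]

lemma isGen_lp {U : X.Opens} {e : Γ(L, U)} (he : IsGen L U e) : ∀ n,
    IsGen (CohB1.tensorPow L n) U (lp L e n)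
  | 0 => Ample.GenLocus.isGen_one U
  | n + 1 => Ample.GenLocus.isGen_tmul (isGen_lp he n) he

/-- A local generator. -/
structure Fr (L : X.Modules) where
  U : X.Opens
  e : Γ(L, U)
  gen : IsGen L U e

variable {d : ℕ} (α : CohB1.tensorPow L d ⟶ Coh.structureModule X)

/-- The function by which the `d`-th power of the generator is `1`. -/
noncomputable def fd (p : Fr L) : Γ(X, p.U) := α.app p.U (lp L p.e d)

/-- Its restriction. -/
noncomputable abbrev fr (p : Fr L) {W : X.Opens} (h : W ≤ p.U) : Γ(X, W) := rf h (fd α p)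

lemma fr_eq (p : Fr L) {W : X.Opens} (h : W ≤ p.U) :
    fr α p h = α.app W (lp L (rs L h p.e) d) := by
  rw [← rs_lp h p.e d]
  exact (PresheafOfModules.naturality_apply α.val (homOfLE h).op (lp L p.e d)).symm

lemma fr_change {p q : Fr L} {W : X.Opens} (hp : W ≤ p.U) (hq : W ≤ q.U) {b : Γ(X, W)}
    (hb : rs L hq q.e = b • rs L hp p.e) : fr α q hq = b ^ d * fr α p hp := by
  rw [fr_eq, fr_eq, hb, lp_smul, Scheme.Modules.Hom.app_smul]
  rfl

lemma isUnit_fr [IsIso α] (p : Fr L) {W : X.Opens} (h : W ≤ p.U) : IsUnit (fr α p h) := by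
  rw [fr_eq]
  have := Ample.GenLocus.isGen_of_isIso_over (Ample.GenLocus.isIso_over_of_iso (asIso α) W)
    (isGen_lp (p.gen.res h) d)
  obtain ⟨a, ha⟩ := (this W le_rfl).2 (Gen.one X W)
  simp only [rs_self] at ha
  exact IsUnit.of_mul_eq_one_right a ha

lemma exists_coeff (p q : Fr L) {W : X.Opens} (hp : W ≤ p.U) (hq : W ≤ q.U) :
    ∃ b : Γ(X, W), rs L hq q.e = b • rs L hp p.e :=
  let ⟨b, hb⟩ := (p.gen W hp).2 (rs L hq q.e); ⟨b, hb.symm⟩

lemma coeff_unique {p : Fr L} {W : X.Opens} (hp : W ≤ p.U) {a b : Γ(X, W)}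
    (h : a • rs L hp p.e = b • rs L hp p.e) : a = b := (p.gen W hp).1 h

end Groth.Agent.H81.CycCover.Frame
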