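import Groth.Agent.H81.CycCover.Global
import Groth.Agent.H81.CycCover.Conn
import Groth.Agent.H81.PushLocFree
import Groth.Agent.Lib.RelSpecBasics.Gamma
import Groth.Agent.Lib.Henselian.Sections
import Mathlib.AlgebraicGeometry.Morphisms.Etale

/-!
The cyclic cover of a torsion invertible module.
-/

universe u

open CategoryTheory CategoryTheory.Limits AlgebraicGeometry Opposite TopologicalSpace

namespace Groth.Agent.H81.CycCover.Geom

open Groth.Agent.Lib Groth.Agent.Lib.TensorMod Groth.Agent.Lib.TensorMod.Dual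
open Groth.Agent.H81.CycCover.Ring Groth.Agent.H81.CycCover.Frame Groth.Agent.H81.CycCover.Fam
open Groth.Agent.H81.CycCover.Alg

variable {X : Scheme.{u}} {L : X.Modules} {d : ℕ} (α : CohB1.tensorPow L d ⟶ Coh.structureModule X)
  (hd : 0 < d) (hL : PicF.IsInvertible L)

/-- The cover. -/
noncomputable abbrev cov : Scheme.{u} := (qcAlg α hd hL).spec

/-- The structure morphism. -/
noncomputable abbrev g : cov α hd hL ⟶ X := (qcAlg α hd hL).π

/-- The functions on the cover are the families. -/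
noncomputable def σ (V : X.Opens) : Γ(cov α hd hL, g α hd hL ⁻¹ᵁ V) →+* Sec α V :=
  ((qcAlg α hd hL).gammaMap.app (op V)).hom

lemma σ_bijective (V : X.Opens) : Function.Bijective (σ α hd hL V) := by
  have := RelSpecBasics.Gamma.isIso_gammaMap (qcAlg α hd hL)
  exact ConcreteCategory.bijective_of_isIso ((qcAlg α hd hL).gammaMap.app (op V))

lemma σ_app (V : X.Opens) (r : Γ(X, V)) : σ α hd hL V ((g α hd hL).app V r) = constHom α V r :=
  congr(($((qcAlg α hd hL).π_c_gammaMap)).app (op V) r)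

lemma σ_res {U V : X.Opens} (h : V ≤ U) (y : Γ(cov α hd hL, g α hd hL ⁻¹ᵁ U)) :
    σ α hd hL V ((cov α hd hL).presheaf.map (homOfLE ((g α hd hL).preimage_mono h)).op y) =
      secRes α h (σ α hd hL U y) :=
  congr($((qcAlg α hd hL).gammaMap.naturality (homOfLE h).op) y)

/-- The inverse identification. -/
noncomputable def τ (V : X.Opens) (a : Sec α V) : Γ(cov α hd hL, g α hd hL ⁻¹ᵁ V) :=
  ((σ_bijective α hd hL V).2 a).choose

lemma σ_τ (V : X.Opens) (a : Sec α V) : σ α hd hL V (τ α hd hL V a) = a :=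
  ((σ_bijective α hd hL V).2 a).choose_spec

theorem isFinLocFreeOfRank_push :
    FlatMod.IsFinLocFreeOfRank d (PushLocFree.push (g α hd hL)) := by
  intro x
  obtain ⟨U, e, hx, he⟩ := Gen.isInvertible_iff.1 hL x
  let p : Fr L := ⟨U, e, he⟩
  let E : Fin d → Γ(PushLocFree.push (g α hd hL), p.U) := fun i => τ α hd hL p.U (tp α p ^ (i : ℕ))
  refine ⟨U, hx, Basis.exists_iso_of_basis (U := p.U) (e := E) fun V h => ?_⟩
  have key : ∀ a, σ α hd hL V (Basis.comb E h a) = (Basis.comb (basisElt α hd p) h a : Sec α V) := by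
    intro a
    change σ α hd hL V (∑ i, (g α hd hL).app V (a i) *
      (cov α hd hL).presheaf.map (homOfLE ((g α hd hL).preimage_mono h)).op (E i)) = _
    rw [map_sum]
    refine Finset.sum_congr rfl fun i _ => ?_
    refine (map_mul (σ α hd hL V) _ _).trans ?_
    rw [σ_app, σ_res]
    exact congrArg (fun t => constHom α V (a i) * secRes α h t) (σ_τ α hd hL p.U _)
  have hb := isBasis_basisElt α hd p V h
  refine (Function.Bijective.of_comp_iff' (σ_bijective α hd hL V) _).1 ?_
  exact (iff_of_eq (congrArg Function.Bijective (funext key))).2 hb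

theorem isFinLocFreeOfDeg : Mor2.IsFinLocFreeOfDeg d (g α hd hL) := by
  have h := isFinLocFreeOfRank_push α hd hL
  obtain ⟨h1, h2, h3⟩ := PushLocFree.isFinLocFree_of_push (g α hd hL) fun y =>
    let ⟨U, hy, i⟩ := h y; ⟨U, d, hy, i⟩
  haveI := h1; haveI := h2
  refine ⟨⟨h1, h2, h3⟩, fun y => ?_⟩
  obtain ⟨U, hy, ⟨i⟩⟩ := h y
  exact PushLocFree.finrank_eq hy i

/-- The tautological root: a linear form `L → O ⊕ L ⊕ …`. -/
theorem exists_lin (V : X.Opens) (l : Γ(L, V)) : ∃ a : Sec α V, ∀ (p : Fr L) (c : Γ(X, V ⊓ p.U)),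
    rs L inf_le_left l = c • rs L (inf_le_right : V ⊓ p.U ≤ p.U) p.e → a.1 p = cst c * T := by
  choose c hc using fun p : Fr L =>
    (p.gen (V ⊓ p.U) inf_le_right).2 (rs L (inf_le_left : V ⊓ p.U ≤ V) l)
  refine ⟨⟨fun p => cst (c p) * T, fun p q W hp hq b hb => ?_⟩, fun p c' hc' => ?_⟩
  · change tres α inf_le_right hq (hp.trans inf_le_right) hb (cst (c q) * T) =
      rres α p inf_le_right hp (cst (c p) * T)
    simp only [tres, rres, map_mul, rmap_cst, rmap_T, map_one, one_mul]
    rw [← mul_assoc, ← map_mul]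
    congr 2
    refine coeff_unique (p := p) (hp.trans inf_le_right) ?_
    have h1 := congrArg (rs L hp) (hc p)
    have h2 := congrArg (rs L hq) (hc q)
    simp only [rs_smul, rs_rs] at h1 h2
    rw [← smul_smul, ← hb, h1]
    exact h2
  · simp only
    rw [coeff_unique (p := p) inf_le_right ((hc p).trans hc')]

/-- The linear form. -/
noncomputable def lin (V : X.Opens) (l : Γ(L, V)) : Sec α V := (exists_lin α V l).choose

lemma lin_spec (V : X.Opens) (l : Γ(L, V)) (p : Fr L) (c : Γ(X, V ⊓ p.U))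
    (h : rs L inf_le_left l = c • rs L (inf_le_right : V ⊓ p.U ≤ p.U) p.e) :
    (lin α V l).1 p = cst c * T := (exists_lin α V l).choose_spec p c h

lemma lin_add (V : X.Opens) (l l' : Γ(L, V)) : lin α V (l + l') = lin α V l + lin α V l' := by
  refine Subtype.ext (funext fun p => ?_)
  obtain ⟨c, hc⟩ := (p.gen (V ⊓ p.U) inf_le_right).2 (rs L (inf_le_left : V ⊓ p.U ≤ V) l)
  obtain ⟨c', hc'⟩ := (p.gen (V ⊓ p.U) inf_le_right).2 (rs L (inf_le_left : V ⊓ p.U ≤ V) l')
  simp only at hc hc'
  rw [lin_spec α V (l + l') p (c + c') (by rw [HomGlue.rs_add, add_smul, hc, hc'])]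
  change _ = (lin α V l).1 p + (lin α V l').1 p
  rw [lin_spec α V l p c hc.symm, lin_spec α V l' p c' hc'.symm, map_add, add_mul]

lemma lin_smul (V : X.Opens) (r : Γ(X, V)) (l : Γ(L, V)) : lin α V (r • l) = constHom α V r * lin α V l := by
  refine Subtype.ext (funext fun p => ?_)
  obtain ⟨c, hc⟩ := (p.gen (V ⊓ p.U) inf_le_right).2 (rs L (inf_le_left : V ⊓ p.U ≤ V) l)
  simp only at hc
  rw [lin_spec α V (r • l) p (rh inf_le_left r * c) (by rw [rs_smul, ← smul_smul, hc])]
  change _ = cst (rh inf_le_left r) * (lin α V l).1 p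
  rw [lin_spec α V l p c hc.symm, map_mul, mul_assoc]

lemma lin_res {U V : X.Opens} (h : V ≤ U) (l : Γ(L, U)) : secRes α h (lin α U l) = lin α V (rs L h l) := by
  refine Subtype.ext (funext fun p => ?_)
  obtain ⟨c, hc⟩ := (p.gen (U ⊓ p.U) inf_le_right).2 (rs L (inf_le_left : U ⊓ p.U ≤ U) l)
  simp only at hc
  have h1 := congrArg (rs L (inf_le_inf_right p.U h)) hc
  simp only [rs_smul, rs_rs] at h1
  rw [secRes_apply, lin_spec α U l p c hc.symm, lin_spec α V (rs L h l) p (rh (inf_le_inf_right p.U h) c)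
    (by rw [rs_rs]; exact h1.symm)]
  simp [rres]

lemma lin_gen (hd : 0 < d) (p : Fr L) : lin α p.U p.e = tp α p := by
  refine (ev_bijective α p le_rfl).1 ?_
  have := ev_tp α hd p le_rfl
  rw [secRes_self] at this
  rw [this, ev_apply, lin_spec α p.U p.e p 1 (one_smul _ _).symm, map_one, one_mul]
  simp [rres]

/-- The map `L ⟶ g_* O`. -/
noncomputable def linHom : L ⟶ PushLocFree.push (g α hd hL) :=
  ⟨PresheafOfModules.homMk
    { app := fun V => AddCommGrpCat.ofHom <| AddMonoidHom.mk' (fun l => τ α hd hL V.unop (lin α V.unop l))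
        fun l l' => (σ_bijective α hd hL V.unop).1 (by
          refine ((σ_τ α hd hL _ _).trans (lin_add α _ l l')).trans ?_
          exact ((map_add (σ α hd hL V.unop) _ _).trans
            (congrArg₂ (· + ·) (σ_τ α hd hL _ _) (σ_τ α hd hL _ _))).symm)
      naturality := fun U V i => AddCommGrpCat.hom_ext (AddMonoidHom.ext fun l =>
        (σ_bijective α hd hL V.unop).1 (by
          refine (σ_τ α hd hL _ _).trans ?_
          refine ((σ_res α hd hL i.unop.le _).trans ?_).symm
          exact (congrArg (secRes α i.unop.le) (σ_τ α hd hL _ _)).trans (lin_res α i.unop.le l))) }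
    fun V r l => (σ_bijective α hd hL V.unop).1 (by
      refine ((σ_τ α hd hL _ _).trans (lin_smul α _ r l)).trans ?_
      exact ((map_mul (σ α hd hL V.unop) _ _).trans
        (congrArg₂ (· * ·) (σ_app α hd hL _ r) (σ_τ α hd hL _ _))).symm)⟩

theorem pullback_trivial [IsIso α] :
    Nonempty ((Scheme.Modules.pullback (g α hd hL)).obj L ≅ Coh.structureModule (cov α hd hL)) := by
  let ψ : (Scheme.Modules.pullback (g α hd hL)).obj L ⟶ Coh.structureModule (cov α hd hL) :=
    ((Pullback.pbAdj (g α hd hL)).homEquiv _ _).symm (linHom α hd hL)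
  suffices IsIso ψ from ⟨asIso ψ⟩
  refine LocIso.isIso_of_locally ψ fun y => ?_
  obtain ⟨U, e, hx, he⟩ := Gen.isInvertible_iff.1 hL ((g α hd hL) y)
  let p : Fr L := ⟨U, e, he⟩
  have hE := Ample.GenLocus.isGen_unitSec (f := g α hd hL) p.gen
  have hval : ψ.app (g α hd hL ⁻¹ᵁ p.U) (Pullback.unitSec (g α hd hL) L p.e) =
      τ α hd hL p.U (lin α p.U p.e) := by
    have h := ((Pullback.pbAdj (g α hd hL)).homEquiv _ _).apply_symm_apply (linHom α hd hL)
    rw [Adjunction.homEquiv_unit] at h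
    exact congrArg (fun φ => φ.app p.U p.e) h
  have hu : IsUnit (show Γ(cov α hd hL, g α hd hL ⁻¹ᵁ p.U) from τ α hd hL p.U (lin α p.U p.e)) := by
    let s := RingEquiv.ofBijective _ (σ_bijective α hd hL p.U)
    rw [show τ α hd hL p.U (lin α p.U p.e) = s.symm (lin α p.U p.e) from
      (σ_bijective α hd hL p.U).1 ((σ_τ α hd hL _ _).trans (s.apply_symm_apply _).symm)]
    refine IsUnit.map s.symm ?_
    rw [lin_gen α hd p]
    have h := ev_tp α hd p le_rfl
    rw [secRes_self] at h
    let ev' := RingEquiv.ofBijective _ (ev_bijective α p (le_rfl : p.U ≤ p.U))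
    rw [show tp α p = ev'.symm T from (RingEquiv.eq_symm_apply ev').2 h]
    exact IsUnit.map ev'.symm (isUnit_T hd (isUnit_fr α p le_rfl))
  refine ⟨g α hd hL ⁻¹ᵁ p.U, hx, fun V hV => (ConcreteCategory.isIso_iff_bijective _).2 ?_⟩
  refine (Function.Bijective.of_comp_iff _ (hE V hV)).1 ?_
  let v : Γ(cov α hd hL, V) := rf hV (τ α hd hL p.U (lin α p.U p.e))
  have hv : (fun a => ψ.app V a) ∘ (fun a : Γ(cov α hd hL, V) => a • rs _ hV (Pullback.unitSec (g α hd hL) L p.e)) =
      fun a : Γ(cov α hd hL, V) => a * v := by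
    funext a
    refine (Scheme.Modules.Hom.app_smul ψ a _).trans ?_
    rw [← HomGlue.rs_app, hval]
    rfl
  exact (iff_of_eq (congrArg Function.Bijective hv)).2 ((Units.mulRight (hu.map (rh hV)).unit).bijective)

theorem connectedSpace [IsIso α] [IsIntegral X] (hfield : IsField Γ(X, ⊤))
    (hmin : ∀ i : ℕ, 0 < i → i < d → IsEmpty (CohB1.tensorPow L i ≅ Coh.structureModule X)) :
    ConnectedSpace (cov α hd hL) := by
  obtain ⟨⟨h1, h2, h3⟩, hdeg⟩ := isFinLocFreeOfDeg α hd hL
  haveI := h1; haveI := h2; haveI := h3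
  haveI : Surjective (g α hd hL) :=
    (Scheme.Hom.one_le_finrank_iff_surjective (g α hd hL)).1 fun y => (hdeg y).symm ▸ hd
  haveI : Nonempty (cov α hd hL) :=
    let ⟨y⟩ := (inferInstance : Nonempty X); ⟨((g α hd hL).surjective y).choose⟩
  refine Conn.connectedSpace_of_idempotent fun e he => ?_
  obtain ⟨r, hr⟩ := Global.const_surjective α hd hfield hL hmin (σ α hd hL ⊤ e)
  have hr' : (g α hd hL).app ⊤ r = e := (σ_bijective α hd hL ⊤).1 ((σ_app α hd hL ⊤ r).trans hr)
  let := hfield.toField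
  have hinj : Function.Injective ((g α hd hL).app ⊤).hom := by
    haveI : Nontrivial Γ(cov α hd hL, g α hd hL ⁻¹ᵁ ⊤) :=
      haveI : Nonempty (g α hd hL ⁻¹ᵁ (⊤ : X.Opens)) := ⟨⟨Classical.arbitrary _, trivial⟩⟩
      inferInstance
    exact RingHom.injective _
  have hid : r * r = r := hinj ((map_mul _ _ _).trans (by rw [hr']; exact he))
  rcases mul_eq_zero.1 (show r * (r - 1) = 0 by rw [mul_sub, mul_one, hid, sub_self]) with h | h
  · exact Or.inl (by rw [← hr', h]; exact map_zero _)
  · exact Or.inr (by rw [← hr', sub_eq_zero.1 h]; exact map_one _)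

set_option backward.isDefEq.respectTransparency false in
theorem etale [IsIso α] (hu : IsUnit (d : Γ(X, ⊤))) : Etale (g α hd hL) := by
  choose U e hx he using Gen.isInvertible_iff.1 hL
  choose V hV hxV hVU using fun x => exists_isAffineOpen_mem_and_subset (hx x)
  refine (IsZariskiLocalAtTarget.iff_of_iSup_eq_top (P := (@Etale : MorphismProperty Scheme.{u})) V
    (eq_top_iff.2 fun x _ => Opens.mem_iSup.2 ⟨x, hxV x⟩)).2 fun x => ?_
  rw [PushLocFree.restrict_iff @Etale (g α hd hL) (hV x), HasRingHomProperty.Spec_iff (P := @Etale)]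
  let p : Fr L := ⟨U x, e x, he x⟩
  let f := fr α p (show V x ≤ p.U from hVU x)
  let σe : Γ(cov α hd hL, g α hd hL ⁻¹ᵁ V x) ≃+* Sec α (V x) :=
    RingEquiv.ofBijective (σ α hd hL (V x)) (σ_bijective α hd hL (V x))
  let eve : Sec α (V x) ≃+* Rt d f :=
    RingEquiv.ofBijective (ev α p (show V x ≤ p.U from hVU x)) (ev_bijective α p _)
  have hmap : ((g α hd hL).app (V x)).hom =
      ((σe.trans eve).symm.toRingHom).comp (algebraMap Γ(X, V x) (Rt d f)) := RingHom.ext fun r => by
    refine ((RingEquiv.symm_apply_eq (σe.trans eve)).2 ?_).symm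
    change cst r = ev α p _ (σ α hd hL (V x) ((g α hd hL).app (V x) r))
    rw [σ_app, ev_const]
  rw [hmap]
  refine RingHom.Etale.respectsIso.1 _ _ (RingHom.etale_algebraMap.2 ?_)
  refine Henselian.Sections.etale_adjoinRoot (Polynomial.monic_X_pow_sub_C f hd.ne') ?_
  have hfu : IsUnit f := isUnit_fr α p _
  have hdu : IsUnit (d : Γ(X, V x)) := by
    have := hu.map (rh (le_top : V x ≤ ⊤))
    rwa [map_natCast] at this
  obtain ⟨a, ha⟩ := hfu.exists_left_inv
  obtain ⟨b, hb⟩ := hdu.exists_left_inv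
  refine ⟨-Polynomial.C a, Polynomial.C (a * b) * Polynomial.X, ?_⟩
  rw [Polynomial.derivative_sub, Polynomial.derivative_X_pow, Polynomial.derivative_C, sub_zero]
  have e1 : (Polynomial.X : Polynomial Γ(X, V x)) * Polynomial.X ^ (d - 1) = Polynomial.X ^ d := by
    rw [← pow_succ', Nat.sub_add_cancel hd]
  have e2 : (Polynomial.C a) * Polynomial.C f = (1 : Polynomial Γ(X, V x)) := by rw [← map_mul, ha, map_one]
  have e3 : (Polynomial.C b) * Polynomial.C (d : Γ(X, V x)) = (1 : Polynomial Γ(X, V x)) := by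
    rw [← map_mul, hb, map_one]
  rw [map_mul]
  linear_combination (Polynomial.C a * Polynomial.X ^ d) * e3 + e2 +
    (Polynomial.C a * Polynomial.C b * Polynomial.C (d : Γ(X, V x))) * e1

end Groth.Agent.H81.CycCover.Geom
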