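import Groth.Agent.H81.CycCover.Alg
import Groth.Agent.Lib.TensorMod.HomGlue
import Mathlib.AlgebraicGeometry.FunctionField

/-!
Global sections of the cyclic algebra.
-/

universe u

open CategoryTheory CategoryTheory.Limits AlgebraicGeometry Opposite TopologicalSpace

namespace Groth.Agent.H81.CycCover.Global

open Groth.Agent.Lib Groth.Agent.Lib.TensorMod Groth.Agent.Lib.TensorMod.Dual
open Groth.Agent.H81.CycCover.Ring Groth.Agent.H81.CycCover.Frame Groth.Agent.H81.CycCover.Fam
open Groth.Agent.H81.CycCover.Alg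

variable {X : Scheme.{u}} {L : X.Modules} {d : ℕ} (α : CohB1.tensorPow L d ⟶ Coh.structureModule X)
  (hd : 0 < d)

include hd in
/-- If the global functions form a field and no smaller power is trivial, only constants are global. -/
theorem const_surjective [IsIso α] [IsIntegral X] (hfield : IsField Γ(X, ⊤)) (hL : PicF.IsInvertible L)
    (hmin : ∀ i : ℕ, 0 < i → i < d → IsEmpty (CohB1.tensorPow L i ≅ Coh.structureModule X))
    (a : Sec α ⊤) : ∃ r, constHom α ⊤ r = a := by
  classical
  choose c hc using fun p : Fr L => (comb_bijective hd _).2 (a.1 p)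
  let cc : ∀ (p : Fr L) (i : Fin d) {W : X.Opens}, W ≤ ⊤ ⊓ p.U → Γ(X, W) := fun p i _ h => rh h (c p i)
  have hcomp : ∀ (p q : Fr L) (W : X.Opens) (hp : W ≤ ⊤ ⊓ p.U) (hq : W ≤ ⊤ ⊓ q.U) (b : Γ(X, W)),
      rs L (hq.trans inf_le_right) q.e = b • rs L (hp.trans inf_le_right) p.e →
      ∀ i : Fin d, cc p i hp = cc q i hq * b ^ (i : ℕ) := by
    intro p q W hp hq b hb i
    have h := a.2 p q W hp hq b hb
    rw [← hc p, ← hc q, rres_comb] at h
    simp only [tres, rmap_comb] at h
    exact (congrFun ((comb_bijective hd _).1 h) i).symm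
  have hcov : (⊤ : X.Opens) ≤ iSup fun p : Fr L => (⊤ : X.Opens) ⊓ p.U := fun x _ => by
    obtain ⟨U, e, hx, he⟩ := Gen.isInvertible_iff.1 hL x
    exact Opens.mem_iSup.2 ⟨⟨U, e, he⟩, trivial, hx⟩
  let D : Fr L → X.Opens := fun p => ⊤ ⊓ p.U
  have glue : ∀ (G : ∀ p : Fr L, Γ(X, D p)),
      (∀ p q (W : X.Opens) (hp : W ≤ D p) (hq : W ≤ D q) (b : Γ(X, W)),
        rs L (hq.trans inf_le_right) q.e = b • rs L (hp.trans inf_le_right) p.e → rh hp (G p) = rh hq (G q)) →
      ∃ r : Γ(X, ⊤), ∀ p, rh le_top r = G p := by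
    intro G hG
    obtain ⟨r, hr, -⟩ := TopCat.Sheaf.existsUnique_gluing' X.sheaf D ⊤ (fun p => homOfLE le_top) hcov G
      fun p q => by
        obtain ⟨b, hb⟩ := exists_coeff p q ((inf_le_left : D p ⊓ D q ≤ D p).trans inf_le_right)
          ((inf_le_right : D p ⊓ D q ≤ D q).trans inf_le_right)
        exact hG p q _ inf_le_left inf_le_right b hb
    exact ⟨r, hr⟩
  obtain ⟨r, hr⟩ := glue (fun p => c p ⟨0, hd⟩) fun p q W hp hq b hb => by
    have := hcomp p q W hp hq b hb ⟨0, hd⟩
    rwa [pow_zero, mul_one] at this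
  have hzero : ∀ (p : Fr L) (i : Fin d), 0 < (i : ℕ) → c p i = 0 := by
    intro p i hi
    obtain ⟨F, hF⟩ := glue (fun p => c p i ^ d * fr α p (inf_le_right : D p ≤ p.U) ^ (i : ℕ))
      fun p q W hp hq b hb => by
        simp only [map_mul, map_pow]
        rw [show rh hp (c p i) = cc p i hp from rfl, show rh hq (c q i) = cc q i hq from rfl,
          show rh hp (fr α p _) = fr α p (hp.trans inf_le_right) from rf_rf _ hp _,
          show rh hq (fr α q _) = fr α q (hq.trans inf_le_right) from rf_rf _ hq _,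
          hcomp p q W hp hq b hb i, fr_change α _ _ hb]
        ring
    by_cases hF0 : F = 0
    · rcases isEmpty_or_nonempty (D p) with he | hne
      · have : D p = ⊥ := by
          ext x
          exact ⟨fun hx => he.elim ⟨x, hx⟩, fun hx => hx.elim⟩
        have : Subsingleton Γ(X, D p) :=
          CommRingCat.subsingleton_of_isTerminal (X.sheaf.isTerminalOfEqEmpty this)
        exact Subsingleton.elim (α := Γ(X, D p)) _ _
      · have h := hF p
        rw [hF0, map_zero] at h
        rcases mul_eq_zero.1 h.symm with h1 | h1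
        · exact eq_zero_of_pow_eq_zero h1
        · exact absurd (eq_zero_of_pow_eq_zero h1) (isUnit_fr α p _).ne_zero
    · have hu : IsUnit F := by
        obtain ⟨G, hG⟩ := hfield.mul_inv_cancel hF0
        exact IsUnit.of_mul_eq_one G hG
      have hcu : ∀ q : Fr L, IsUnit (c q i) := fun q => by
        have := hu.map (rh (le_top : D q ≤ ⊤))
        rw [hF q] at this
        exact (isUnit_pow_iff hd.ne').1 (isUnit_of_mul_isUnit_left this)
      have hgen : ∀ q : Fr L, Gen.IsGen (CohB1.tensorPow L i) (D q)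
          (c q i • lp L (rs L (inf_le_right : D q ≤ q.U) q.e) i) := fun q =>
        Ample.GenLocus.IsGen_smul_isUnit (isGen_lp (q.gen.res _) i) (hcu q)
      obtain ⟨φ, -⟩ := HomGlue.exists_iso_of_gen (L := Coh.structureModule X) (M := CohB1.tensorPow L i)
        (U := D) (top_le_iff.1 hcov) (fun q => Gen.one X (D q)) (fun q => Ample.GenLocus.isGen_one _)
        _ hgen fun q₁ q₂ W h₁ h₂ b hb => by
          have hb1 : b = 1 := by
            refine ((Ample.GenLocus.isGen_one W) W le_rfl).1 ?_
            have e1 : rs (Coh.structureModule X) h₁ (Gen.one X (D q₁)) = Gen.one X W :=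
              map_one (X.presheaf.map (homOfLE h₁).op).hom
            have e2 : rs (Coh.structureModule X) h₂ (Gen.one X (D q₂)) = Gen.one X W :=
              map_one (X.presheaf.map (homOfLE h₂).op).hom
            rw [e1, e2] at hb
            simp only [rs_self]
            rw [← hb, one_smul]
          obtain ⟨b', hb'⟩ := exists_coeff q₁ q₂ (h₁.trans inf_le_right) (h₂.trans inf_le_right)
          rw [hb1, one_smul, rs_smul, rs_smul, rs_lp, rs_lp, rs_rs, rs_rs, hb', lp_smul, smul_smul]
          exact congrArg (· • lp L (rs L (h₁.trans inf_le_right) q₁.e) (i : ℕ)) (hcomp q₁ q₂ W h₁ h₂ b' hb' i)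
      exact ((hmin i hi i.2).false φ.symm).elim
  refine ⟨r, Subtype.ext (funext fun p => ?_)⟩
  rw [← hc p]
  change cst (rh inf_le_left r) = _
  rw [show rh (inf_le_left : ⊤ ⊓ p.U ≤ ⊤) r = c p ⟨0, hd⟩ from hr p, Ring.comb,
    Finset.sum_eq_single ⟨0, hd⟩ (fun i _ hi => ?_) (fun h => absurd (Finset.mem_univ _) h), pow_zero, mul_one]
  rw [hzero p i (Nat.pos_of_ne_zero fun h => hi (Fin.ext h)), map_zero, zero_mul]

end Groth.Agent.H81.CycCover.Global
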