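import Groth.Agent.H81.CycCover.Frame
import Groth.Agent.Lib.TensorMod.HomGlue
import Groth.Agent.Lib.FEt.NormalCover
import Groth.Agent.Lib.Ample.Pow
import Mathlib.AlgebraicGeometry.FunctionField
import Mathlib.AlgebraicGeometry.Morphisms.FormallyUnramified
import Mathlib.AlgebraicGeometry.Morphisms.Etale
import Mathlib.AlgebraicGeometry.Morphisms.Finite
import Mathlib.FieldTheory.PurelyInseparable.PerfectClosure

/-!
Étale covers do not trivialise `p`-torsion line bundles in characteristic `p`.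
-/

universe u

open CategoryTheory CategoryTheory.Limits AlgebraicGeometry Opposite TopologicalSpace

namespace Groth.Agent.H81.CycCover.NoEtale

open Groth.Agent.Lib Groth.Agent.Lib.TensorMod Groth.Agent.Lib.TensorMod.Dual
open Groth.Agent.H81.CycCover.Frame
open scoped IntermediateField

theorem mem_range_of_pow {F E : Type*} [Field F] [Field E] [Algebra F E] [Algebra.IsSeparable F E]
    (p : ℕ) [Fact p.Prime] [CharP F p] {a : E} (h : a ^ p ∈ Set.range (algebraMap F E)) :
    a ∈ Set.range (algebraMap F E) := by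
  have h1 : F⟮a⟯ = F⟮a ^ p⟯ := IntermediateField.adjoin_simple_eq_adjoin_pow_expChar_of_isSeparable' F E a p
  have h2 : F⟮a ^ p⟯ = ⊥ :=
    IntermediateField.adjoin_simple_eq_bot_iff.2 (IntermediateField.mem_bot.2 h)
  exact IntermediateField.mem_bot.1 ((h1.trans h2).le (IntermediateField.mem_adjoin_simple_self F a))

variable {X X' : Scheme.{u}} {L : X.Modules} {p : ℕ}

theorem charP_sections [Fact p.Prime] [IsIntegral X] (hfield : IsField Γ(X, ⊤)) [CharP Γ(X, ⊤) p]
    (U : X.Opens) [Nonempty U] : CharP Γ(X, U) p := by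
  let _ := hfield.toField
  exact charP_of_injective_ringHom (RingHom.injective (X.presheaf.map (homOfLE (le_top : U ≤ ⊤)).op).hom) p

variable [Fact p.Prime]

/-- The core statement. -/
theorem nonempty_iso_of_trivial [IsIntegral X] (hnorm : Pi1.IsNormalScheme X)
    (hfield : IsField Γ(X, ⊤)) [CharP Γ(X, ⊤) p] (hL : PicF.IsInvertible L)
    (α : CohB1.tensorPow L p ≅ Coh.structureModule X) [ConnectedSpace X']
    (hroot : ∀ u : Γ(X', ⊤), IsUnit u → ∃ v : Γ(X', ⊤), v ^ p = u)
    (g : X' ⟶ X) [IsFinite g] [Etale g]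
    (φ : (Scheme.Modules.pullback g).obj L ≅ Coh.structureModule X') :
    Nonempty (L ≅ Coh.structureModule X) := by
  classical
  have hp0 : 0 < p := (Fact.out : p.Prime).pos
  let J := {q : Fr L // IsAffineOpen q.U ∧ Nonempty q.U}
  let D : J → X.Opens := fun q => q.1.U
  have hcov : iSup D = ⊤ := eq_top_iff.2 fun x _ => by
    obtain ⟨U, e, hx, he⟩ := Gen.isInvertible_iff.1 hL x
    obtain ⟨V, hV, hxV, hVU⟩ := exists_isAffineOpen_mem_and_subset hx
    exact Opens.mem_iSup.2 ⟨⟨⟨V, rs L (show V ≤ U from hVU) e, he.res hVU⟩, hV, ⟨⟨x, hxV⟩⟩⟩, hxV⟩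
  let c : ∀ q : J, Γ(X', g ⁻¹ᵁ D q) := fun q =>
    φ.hom.app (g ⁻¹ᵁ D q) (Pullback.unitSec g L q.1.e)
  have hcu : ∀ q, IsUnit (c q) := fun q => by
    have h := Ample.GenLocus.isGen_of_isIso_over (Ample.GenLocus.isIso_over_of_iso φ _)
      (Ample.GenLocus.isGen_unitSec (f := g) q.1.gen)
    obtain ⟨a, ha⟩ := (h _ le_rfl).2 (Gen.one X' _)
    simp only [rs_self] at ha
    exact IsUnit.of_mul_eq_one_right a ha
  let gf : ∀ q : J, Γ(X', g ⁻¹ᵁ D q) := fun q => g.app (D q) (fd α.hom q.1)
  have hgu : ∀ q, IsUnit (gf q) := fun q => by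
    have := isUnit_fr α.hom q.1 (le_refl q.1.U)
    rw [fr, rf_self] at this
    exact this.map (g.app (D q)).hom
  let G : ∀ q : J, Γ(X', g ⁻¹ᵁ D q) := fun q => c q ^ p * ↑(hgu q).unit⁻¹
  have hGu : ∀ q, IsUnit (G q) := fun q => ((hcu q).pow p).mul (Units.isUnit _)
  have hG : ∀ q, G q * gf q = c q ^ p := fun q => by
    rw [show G q = c q ^ p * ↑(hgu q).unit⁻¹ from rfl, mul_assoc, IsUnit.val_inv_mul, mul_one]
  have hnat : ∀ {U V : X.Opens} (h : V ≤ U) (r : Γ(X, U)),
      rf (g.preimage_mono h) (g.app U r) = g.app V (rf h r) := fun h r =>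
    congr($((g.naturality (homOfLE h).op)) r).symm
  have hcc : ∀ (q r : J) (W : X.Opens) (hq : W ≤ D q) (hr : W ≤ D r) (b : Γ(X, W)),
      rs L hr r.1.e = b • rs L hq q.1.e →
      rf (g.preimage_mono hr) (c r) = g.app W b * rf (g.preimage_mono hq) (c q) := by
    intro q r W hq hr b hb
    have h1 : rf (g.preimage_mono hr) (c r) = φ.hom.app _ (Pullback.unitSec g L (rs L hr r.1.e)) :=
      (HomGlue.rs_app φ.hom _ _).trans (congrArg _ (Ample.GenLocus.unitSec_rs (f := g) hr r.1.e))
    have h2 : rf (g.preimage_mono hq) (c q) = φ.hom.app _ (Pullback.unitSec g L (rs L hq q.1.e)) :=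
      (HomGlue.rs_app φ.hom _ _).trans (congrArg _ (Ample.GenLocus.unitSec_rs (f := g) hq q.1.e))
    rw [h1, h2, hb, Ample.GenLocus.unitSec_smul]
    exact Scheme.Modules.Hom.app_smul φ.hom _ _
  have hGc : ∀ (q r : J) (W : X.Opens) (hq : W ≤ D q) (hr : W ≤ D r),
      rf (g.preimage_mono hq) (G q) = rf (g.preimage_mono hr) (G r) := by
    intro q r W hq hr
    obtain ⟨b, hb⟩ := exists_coeff q.1 r.1 hq hr
    have hbu : IsUnit (rf (g.preimage_mono hr) (gf r)) :=
      (hgu r).map (X'.presheaf.map (homOfLE (g.preimage_mono hr)).op).hom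
    refine hbu.mul_left_injective ?_
    have e1 := congrArg (rf (g.preimage_mono hq)) (hG q)
    have e2 := congrArg (rf (g.preimage_mono hr)) (hG r)
    simp only [map_mul, map_pow] at e1 e2
    simp only
    change rf (g.preimage_mono hq) (G q) * rf (g.preimage_mono hr) (gf r) =
      rf (g.preimage_mono hr) (G r) * rf (g.preimage_mono hr) (gf r)
    rw [e2]
    change _ = rf (g.preimage_mono hr) (c r) ^ p
    rw [hcc q r W hq hr b hb, mul_pow]
    change _ = _ * rf (g.preimage_mono hq) (c q) ^ p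
    rw [← e1,
      show rf (g.preimage_mono hr) (gf r) = (g.app W b) ^ p * rf (g.preimage_mono hq) (gf q) by
        simp only [gf]
        rw [hnat hr, hnat hq, ← map_pow, ← map_mul]
        exact congrArg _ (fr_change α.hom hq hr hb)]
    ring
  have hcov' : (⊤ : X'.Opens) ≤ iSup fun q => g ⁻¹ᵁ D q := by
    rw [← Scheme.Hom.preimage_iSup, hcov, Scheme.Hom.preimage_top]
  obtain ⟨F', hF, -⟩ := TopCat.Sheaf.existsUnique_gluing' X'.sheaf (fun q => g ⁻¹ᵁ D q) ⊤
    (fun q => homOfLE le_top) hcov' G fun q r => hGc q r (D q ⊓ D r) inf_le_left inf_le_right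
  obtain ⟨F, hF'⟩ : ∃ F : Γ(X', ⊤), ∀ q, rf (le_top : g ⁻¹ᵁ D q ≤ ⊤) F = G q := ⟨F', hF⟩
  have hFu : IsUnit F := by
    refine RingedSpace.isUnit_of_isUnit_germ _ ⊤ _ fun x hx => ?_
    obtain ⟨q, hq⟩ := Opens.mem_iSup.1 (hcov' hx)
    have := (hGu q).map (X'.presheaf.germ (g ⁻¹ᵁ D q) x hq).hom
    rw [← hF' q] at this
    rwa [TopCat.Presheaf.germ_res_apply] at this
  obtain ⟨v, hv⟩ := hroot F hFu
  have hvu : IsUnit v := (isUnit_pow_iff hp0.ne').1 (hv ▸ hFu)
  have ht : ∀ q, ∃ t : Γ(X', g ⁻¹ᵁ D q), t ^ p = gf q := fun q => by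
    let w : Γ(X', g ⁻¹ᵁ D q) := rf le_top (↑hvu.unit⁻¹ : Γ(X', ⊤))
    refine ⟨c q * w, ?_⟩
    have e : w ^ p * G q = 1 := by
      rw [← hF' q, ← hv]
      change rf _ (↑hvu.unit⁻¹ : Γ(X', ⊤)) ^ p * rf _ (v ^ p) = 1
      rw [← map_pow, ← map_mul, ← mul_pow, IsUnit.val_inv_mul, one_pow, map_one]
    rw [mul_pow, ← hG q, mul_comm, ← mul_assoc, e, one_mul]
  have hsurj : Function.Surjective g := by
    rw [← Set.range_eq_univ]
    exact IsClopen.eq_univ ⟨g.isClosedMap.isClosed_range, g.isOpenMap.isOpen_range⟩ (Set.range_nonempty _)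
  obtain ⟨y, hy⟩ := hsurj (genericPoint X)
  have hroots : ∀ q : J, ∃ a : Γ(X, D q), a ^ p = fd α.hom q.1 := by
    intro q
    haveI := q.2.2
    haveI : Nonempty (D q) := q.2.2
    obtain ⟨t, ht⟩ := ht q
    have hgy : g y ∈ D q := by
      rw [hy]
      exact ((genericPoint_spec X).mem_open_set_iff (D q).isOpen).2
        (by obtain ⟨⟨x, hx⟩⟩ := q.2.2; exact ⟨x, trivial, hx⟩)
    letI : Algebra (X.residueField (g y)) (X'.residueField y) := (g.residueFieldMap y).hom.toAlgebra
    have := charP_sections hfield (p := p) (D q)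
    haveI : CharP (X.residueField (g y)) p := by
      let _ := hfield.toField
      exact charP_of_injective_ringHom (RingHom.injective
        ((X.evaluation (D q) (g y) hgy).hom.comp
          (X.presheaf.map (homOfLE (le_top : D q ≤ ⊤)).op).hom)) p
    have key : algebraMap (X.residueField (g y)) (X'.residueField y) (X.evaluation (D q) (g y) hgy (fd α.hom q.1)) =
        X'.evaluation (g ⁻¹ᵁ D q) y hgy t ^ p := by
      rw [← map_pow, ht]
      exact Scheme.evaluation_naturality_apply g y hgy (fd α.hom q.1)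
    obtain ⟨a', ha'⟩ := mem_range_of_pow p ⟨_, key⟩
    rw [← ha', ← map_pow] at key
    have key' := (algebraMap (X.residueField (g y)) (X'.residueField y)).injective key
    have hgen : genericPoint X ∈ D q := hy ▸ hgy
    obtain ⟨A, hA⟩ : ∃ A : X.functionField, A ^ p = X.presheaf.germ (D q) (genericPoint X) hgen (fd α.hom q.1) := by
      suffices ∀ (x : X) (hx : x = genericPoint X) (hxm : x ∈ D q) (a : X.residueField x),
          X.evaluation (D q) x hxm (fd α.hom q.1) = a ^ p →
          ∃ A : X.functionField, A ^ p = X.presheaf.germ (D q) (genericPoint X) hgen (fd α.hom q.1) from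
        this _ hy hgy a' key'
      rintro x rfl hxm a ha
      obtain ⟨A, rfl⟩ := IsLocalRing.residue_surjective a
      refine ⟨A, RingHom.injective (IsLocalRing.residue X.functionField) ?_⟩
      rw [map_pow]
      exact ha.symm
    let _ := (X.germToFunctionField (D q)).hom.toAlgebra
    have := functionField_isFractionRing_of_isAffineOpen X (D q) q.2.1
    have := FEt.NormalCover.isIntegrallyClosed_sections hnorm (U := D q)
    obtain ⟨a, ha⟩ := IsIntegrallyClosed.exists_algebraMap_eq_of_isIntegral_pow (R := Γ(X, D q)) hp0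
      (show IsIntegral Γ(X, D q) (A ^ p) by rw [hA]; exact isIntegral_algebraMap (x := fd α.hom q.1))
    refine ⟨a, IsFractionRing.injective Γ(X, D q) X.functionField ?_⟩
    rw [map_pow, ha, hA]
    rfl
  choose a ha using hroots
  have hau : ∀ q : J, IsUnit (a q) := fun q => by
    refine (isUnit_pow_iff hp0.ne').1 ?_
    rw [ha q]
    have := isUnit_fr α.hom q.1 (le_refl q.1.U)
    rwa [fr, rf_self] at this
  obtain ⟨ψ, -⟩ := HomGlue.exists_iso_of_gen (L := L) (M := Coh.structureModule X) hcov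
    (fun q => q.1.e) (fun q => q.1.gen) (fun q => a q • Gen.one X (D q))
    (fun q => Ample.GenLocus.IsGen_smul_isUnit (Ample.GenLocus.isGen_one _) (hau q))
    fun r q W hr hq b hb => by
      have hb' := fr_change α.hom hq hr hb
      have hone : ∀ (s : J) (hs : W ≤ D s), rs (Coh.structureModule X) hs (a s • Gen.one X (D s)) =
          rf hs (a s) • Gen.one X W := fun s hs => by
        rw [rs_smul]
        exact congrArg _ (map_one (X.presheaf.map (homOfLE hs).op).hom)
      rw [hone, hone, smul_smul]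
      refine congrArg (· • Gen.one X W) ?_
      rcases isEmpty_or_nonempty W with he | hne
      · have : W = ⊥ := by
          ext x
          exact ⟨fun hx => he.elim ⟨x, hx⟩, fun hx => hx.elim⟩
        have : Subsingleton Γ(X, W) :=
          CommRingCat.subsingleton_of_isTerminal (X.sheaf.isTerminalOfEqEmpty this)
        exact Subsingleton.elim (α := Γ(X, W)) _ _
      · haveI := hne
        have := charP_sections hfield (p := p) W
        refine frobenius_inj Γ(X, W) p ?_
        simp only [frobenius_def, mul_pow, ← map_pow, ha]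
        exact hb'
  exact ⟨ψ⟩

end Groth.Agent.H81.CycCover.NoEtale
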